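/-
Coordinates of an elementary abelian quotient of order two hundred and fifty-six.
-/
import Mathlib.LinearAlgebra.FiniteDimensional.Basic
import Mathlib.LinearAlgebra.Dimension.Finite
import Mathlib.Algebra.Module.ZMod
import Mathlib.GroupTheory.QuotientGroup.Basic
import Mathlib.Data.Nat.Bitwise
import Mathlib.Tactic

set_option autoImplicit false

namespace CfsgLib.U6Chz

/-- Bits as scalars. -/
def bitsV (n : ℕ) : Fin 8 → ZMod 2 := fun i => if n.testBit i.val then 1 else 0

theorem bitsV_add (a b : ℕ) : bitsV (a ^^^ b) = bitsV a + bitsV b := by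
  funext i
  simp only [bitsV, Pi.add_apply, Nat.testBit_xor]
  cases a.testBit i.val <;> cases b.testBit i.val <;> decide

theorem bitsV_inj {a b : ℕ} (ha : a < 256) (hb : b < 256) (h : bitsV a = bitsV b) : a = b := by
  refine Nat.eq_of_testBit_eq fun i => ?_
  by_cases hi : i < 8
  · have := congrFun h ⟨i, hi⟩
    simp only [bitsV] at this
    cases h1 : a.testBit i <;> cases h2 : b.testBit i <;> simp_all
  · have hp : 2 ^ 8 ≤ 2 ^ i := Nat.pow_le_pow_right (by norm_num) (by omega)
    rw [Nat.testBit_lt_two_pow (lt_of_lt_of_le (by omega) hp), Nat.testBit_lt_two_pow (lt_of_lt_of_le (by omega) hp)]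

/-- The coordinates. -/
theorem exists_code {E : Type*} [Group E] [Finite E] {z : E} (hc : ∀ a, Commute a z) (hz : z ≠ 1)
    (hsq : ∀ a : E, a * a = 1 ∨ a * a = z) (hcard : Nat.card E = 512) :
    ∃ κ : E → ℕ, (∀ a, κ a < 256) ∧ (∀ a b, κ (a * b) = κ a ^^^ κ b) ∧ (∀ a, κ a = 0 ↔ a = 1 ∨ a = z) ∧
      ∀ v < 256, ∃ a, κ a = v := by
  classical
  have zz : z * z = 1 := by
    rcases hsq z with h | h
    · exact h
    · exact absurd (mul_eq_left.mp h) hz
  let N : Subgroup E :=
    { carrier := {1, z}
      one_mem' := Or.inl rfl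
      mul_mem' := fun {a b} ha hb => by
        simp only [Set.mem_insert_iff, Set.mem_singleton_iff] at ha hb ⊢
        rcases ha with rfl | rfl <;> rcases hb with rfl | rfl <;> simp [zz]
      inv_mem' := fun {a} ha => by
        simp only [Set.mem_insert_iff, Set.mem_singleton_iff] at ha ⊢
        rcases ha with rfl | rfl
        · simp
        · exact Or.inr (inv_eq_of_mul_eq_one_right zz) }
  have memN : ∀ {a}, a ∈ N ↔ a = 1 ∨ a = z := Iff.rfl
  haveI : N.Normal := ⟨fun a ha g => memN.mpr (by
    rcases memN.mp ha with rfl | rfl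
    · exact Or.inl (by group)
    · exact Or.inr (by rw [(hc g).eq, mul_inv_cancel_right]))⟩
  have two : ∀ x : E ⧸ N, x * x = 1 := fun x => by
    obtain ⟨a, rfl⟩ := QuotientGroup.mk_surjective x
    rw [← QuotientGroup.mk_mul, QuotientGroup.eq_one_iff]
    exact memN.mpr (hsq a)
  letI : CommGroup (E ⧸ N) :=
    { (inferInstance : Group (E ⧸ N)) with
      mul_comm := fun x y => by
        have hi : ∀ w : E ⧸ N, w⁻¹ = w := fun w => inv_eq_of_mul_eq_one_right (two w)
        rw [← hi (x * y), mul_inv_rev, hi, hi] }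
  letI : Module (ZMod 2) (Additive (E ⧸ N)) := AddCommGroup.zmodModule (n := 2) fun x => by
    rw [two_nsmul]; exact two x.toMul
  haveI : Module.Finite (ZMod 2) (Additive (E ⧸ N)) := Module.Finite.of_finite
  have hN : Nat.card N = 2 := by
    show Nat.card ({1, z} : Set E) = 2
    rw [Nat.card_coe_set_eq, Set.ncard_pair hz.symm]
  have hq : Nat.card (Additive (E ⧸ N)) = 256 := by
    have h := Subgroup.card_eq_card_quotient_mul_card_subgroup N
    rw [hcard, hN] at h
    show Nat.card (E ⧸ N) = 256
    omega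
  have hd : Module.finrank (ZMod 2) (Additive (E ⧸ N)) = 8 := by
    have h := Module.natCard_eq_pow_finrank (K := ZMod 2) (V := Additive (E ⧸ N))
    rw [hq, Nat.card_zmod, show (256 : ℕ) = 2 ^ 8 by norm_num] at h
    exact (Nat.pow_right_injective (le_refl 2) h).symm
  let e := ((Module.finBasis (ZMod 2) (Additive (E ⧸ N))).reindex (finCongr hd)).equivFun
  let f : Fin 256 → (Fin 8 → ZMod 2) := fun n => bitsV n.val
  have hf : Function.Bijective f := by
    refine (Fintype.bijective_iff_injective_and_card f).mpr ⟨fun a b h => Fin.ext (bitsV_inj a.2 b.2 h), ?_⟩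
    simp
  let φ := Equiv.ofBijective f hf
  refine ⟨fun a => (φ.symm (e (Additive.ofMul (QuotientGroup.mk a)))).val, fun a => Fin.is_lt _, fun a b => ?_,
    fun a => ?_, fun v hv => ?_⟩
  · have key : ∀ x, bitsV (φ.symm x).val = x := fun x => φ.apply_symm_apply x
    refine bitsV_inj (Fin.is_lt _) (Nat.xor_lt_two_pow (n := 8) (Fin.is_lt _) (Fin.is_lt _)) ?_
    rw [bitsV_add, key, key, key, ← map_add, ← ofMul_mul, QuotientGroup.mk_mul]
  · have key : ∀ x, bitsV (φ.symm x).val = x := fun x => φ.apply_symm_apply x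
    rw [← memN, ← QuotientGroup.eq_one_iff]
    beta_reduce
    constructor
    · intro h
      have := key (e (Additive.ofMul (QuotientGroup.mk a)))
      rw [h] at this
      have h0 : bitsV 0 = 0 := funext fun i => by simp [bitsV]
      rw [h0, ← map_zero e] at this
      exact (Additive.ofMul.injective (e.injective this.symm : _ = Additive.ofMul (1 : E ⧸ N)))
    · intro h
      show (φ.symm (e (Additive.ofMul ((a : E ⧸ N))))).val = 0
      rw [h, ofMul_one, map_zero]
      refine bitsV_inj (Fin.is_lt _) (by norm_num) ?_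
      rw [key]
      exact funext fun i => by simp [bitsV]
  · obtain ⟨a, ha⟩ := QuotientGroup.mk_surjective (Additive.toMul (e.symm (f ⟨v, hv⟩)))
    refine ⟨a, ?_⟩
    show (φ.symm (e (Additive.ofMul (a : E ⧸ N)))).val = v
    rw [ha, ofMul_toMul, e.apply_symm_apply, show f ⟨v, hv⟩ = φ ⟨v, hv⟩ from rfl, φ.symm_apply_apply]

end CfsgLib.U6Chz
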