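/-
An involution whose centraliser has an extraspecial self-centralising normal subgroup of order two to the nine:
the action on the eight coordinates.
-/
import Cfsg.Agent.Lib.U6Chz.Code
import Cfsg.Agent.Lib.U42Act.Ident

set_option autoImplicit false
set_option maxRecDepth 100000
set_option linter.unusedVariables false

namespace CfsgLib.U6Chz

open CfsgLib.U42Act (bq)

/-- The data. -/
structure Chz (G : Type*) [Group G] where
  z : G
  zz : z * z = 1
  z1 : z ≠ 1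
  J : Subgroup G
  zJ : z ∈ J
  Jz : ∀ j ∈ J, Commute j z
  conjJ : ∀ h, Commute h z → ∀ j ∈ J, h * j * h⁻¹ ∈ J
  κ : G → ℕ
  κ_lt : ∀ j ∈ J, κ j < 256
  κ_mul : ∀ a ∈ J, ∀ b ∈ J, κ (a * b) = κ a ^^^ κ b
  κ_ker : ∀ j ∈ J, κ j = 0 ↔ j = 1 ∨ j = z
  κ_surj : ∀ v < 256, ∃ j ∈ J, κ j = v
  sq2 : ∀ j ∈ J, j * j = 1 ∨ j * j = z
  Jcard : Nat.card J = 512
  nc : ∀ j ∈ J, κ j ≠ 0 → ∃ c ∈ J, ¬ Commute c j
  cent : ∀ h, Commute h z → (∀ j ∈ J, Commute h j) → h ∈ J

/-- The data from the hypotheses. -/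
theorem exists_chz {G : Type*} [Group G] [Finite G] (z : G) (hz : orderOf z = 2) (J : Subgroup G)
    (Jz : ∀ j ∈ J, Commute j z) (conjJ : ∀ h, Commute h z → ∀ j ∈ J, h * j * h⁻¹ ∈ J) (hcard : Nat.card J = 512)
    (sq2 : ∀ j ∈ J, j * j = 1 ∨ j * j = z) (zJ : z ∈ J)
    (cen : ∀ j ∈ J, (∀ k ∈ J, Commute k j) → j = 1 ∨ j = z)
    (cent : ∀ h, Commute h z → (∀ j ∈ J, Commute h j) → h ∈ J) :
    ∃ D : Chz G, D.z = z ∧ D.J = J := by
  classical
  have zz : z * z = 1 := by rw [← pow_two, ← hz, pow_orderOf_eq_one]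
  have z1 : z ≠ 1 := fun h => by rw [h, orderOf_one] at hz; exact absurd hz (by norm_num)
  obtain ⟨κ, l, m, k, s⟩ := exists_code (E := J) (z := ⟨z, zJ⟩) (fun a => Subtype.ext (Jz a.1 a.2))
    (fun h => z1 (congrArg Subtype.val h)) (fun a => by
      rcases sq2 a.1 a.2 with h | h
      · exact Or.inl (Subtype.ext h)
      · exact Or.inr (Subtype.ext h)) hcard
  let K : G → ℕ := fun g => if h : g ∈ J then κ ⟨g, h⟩ else 0
  have Ke : ∀ a (h : a ∈ J), K a = κ ⟨a, h⟩ := fun a h => dif_pos h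
  refine ⟨?_, ?_, ?_⟩
  · exact {
      z := z
      zz := zz
      z1 := z1
      J := J
      zJ := zJ
      Jz := Jz
      conjJ := conjJ
      κ := K
      sq2 := sq2
      Jcard := hcard
      cent := cent
      κ_lt := fun j hj => (Ke j hj).trans_lt (l _)
      κ_mul := fun a ha b hb => by rw [Ke a ha, Ke b hb, Ke _ (mul_mem ha hb), ← m]; rfl
      κ_ker := fun j hj => by
        rw [Ke j hj, k]
        exact or_congr ⟨fun h => congrArg Subtype.val h, fun h => Subtype.ext h⟩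
          ⟨fun h => congrArg Subtype.val h, fun h => Subtype.ext h⟩
      κ_surj := fun v hv => by
        obtain ⟨a, ha⟩ := s v hv
        exact ⟨a.1, a.2, (Ke a.1 a.2).trans ha⟩
      nc := fun j hj h0 => by
        by_contra hcon
        push Not at hcon
        refine h0 ?_
        rw [Ke j hj, k]
        exact (cen j hj hcon).imp (fun h => Subtype.ext h) fun h => Subtype.ext h }
  · rfl
  · rfl

namespace Chz

variable {G : Type*} [Group G] (C : Chz G)

theorem κ_one : C.κ 1 = 0 := (C.κ_ker 1 (one_mem _)).mpr (Or.inl rfl)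

theorem κ_z : C.κ C.z = 0 := (C.κ_ker _ C.zJ).mpr (Or.inr rfl)

theorem κ_inv {j : G} (hj : j ∈ C.J) : C.κ j⁻¹ = C.κ j := by
  have h := C.κ_mul j⁻¹ (inv_mem hj) j hj
  rw [inv_mul_cancel, C.κ_one] at h
  exact U42Act.xzero h.symm

theorem κ_eq {a b : G} (ha : a ∈ C.J) (hb : b ∈ C.J) (e : C.κ a = C.κ b) : a = b ∨ a = b * C.z := by
  have hm : C.κ (b⁻¹ * a) = 0 := by rw [C.κ_mul _ (inv_mem hb) _ ha, C.κ_inv hb, e, Nat.xor_self]
  rcases (C.κ_ker _ (mul_mem (inv_mem hb) ha)).mp hm with h | h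
  · exact Or.inl (inv_mul_eq_one.mp h).symm
  · exact Or.inr (by rw [← h]; group)

theorem κ_conjJ {a b : G} (ha : a ∈ C.J) (hb : b ∈ C.J) : C.κ (a * b * a⁻¹) = C.κ b := by
  rw [C.κ_mul _ (mul_mem ha hb) _ (inv_mem ha), C.κ_mul a ha b hb, C.κ_inv ha, Nat.xor_comm (C.κ a), Nat.xor_assoc,
    Nat.xor_self, Nat.xor_zero]

theorem comm_or {a b : G} (ha : a ∈ C.J) (hb : b ∈ C.J) : Commute a b ∨ a * b = C.z * (b * a) := by
  rcases C.κ_eq (mul_mem (mul_mem ha hb) (inv_mem ha)) hb (C.κ_conjJ ha hb) with h | h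
  · exact Or.inl (mul_inv_eq_iff_eq_mul.mp h)
  · refine Or.inr ?_
    rw [mul_inv_eq_iff_eq_mul.mp h, ← mul_assoc, (C.Jz b hb).eq]

/-- A lift of coordinates. -/
noncomputable def lift (v : ℕ) : G := if h : v < 256 then (C.κ_surj v h).choose else 1

theorem lift_spec {v : ℕ} (h : v < 256) : C.lift v ∈ C.J ∧ C.κ (C.lift v) = v := by
  rw [lift, dif_pos h]; exact (C.κ_surj v h).choose_spec

theorem sq_congr {a b : G} (ha : a ∈ C.J) (hb : b ∈ C.J) (e : C.κ a = C.κ b) : a * a = b * b := by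
  rcases C.κ_eq ha hb e with h | h
  · rw [h]
  · rw [h, Commute.mul_mul_mul_comm (Commute.symm (C.Jz b hb)) b C.z, C.zz, mul_one]

/-- The quadratic form. -/
noncomputable def q (v : ℕ) : ℕ :=
  haveI := Classical.propDecidable
  if C.lift v * C.lift v = C.z then 1 else 0

theorem q_lt (v : ℕ) : C.q v < 2 := by unfold q; split <;> norm_num

theorem sq {j : G} (hj : j ∈ C.J) : j * j = if C.q (C.κ j) = 1 then C.z else 1 := by
  obtain ⟨hl, el⟩ := C.lift_spec (C.κ_lt j hj)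
  rw [C.sq_congr hj hl el.symm]
  unfold q
  rcases C.sq2 _ hl with h | h
  · simp [h, C.z1.symm]
  · simp [h]

theorem q_zero : C.q 0 = 0 := by
  by_contra h
  have := C.q_lt 0
  have e := C.sq (one_mem C.J)
  rw [C.κ_one, if_pos (by omega), mul_one] at e
  exact C.z1 e.symm

theorem bq_lt (u v : ℕ) : bq C.q u v < 2 :=
  Nat.xor_lt_two_pow (n := 1) (Nat.xor_lt_two_pow (n := 1) (C.q_lt _) (C.q_lt _)) (C.q_lt _)

theorem comm_iff {a b : G} (ha : a ∈ C.J) (hb : b ∈ C.J) : Commute a b ↔ bq C.q (C.κ a) (C.κ b) = 0 := by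
  have la := C.q_lt (C.κ a)
  have lb := C.q_lt (C.κ b)
  have lab := C.q_lt (C.κ a ^^^ C.κ b)
  have sa := C.sq ha
  have sb := C.sq hb
  have sab := C.sq (mul_mem ha hb)
  rw [C.κ_mul a ha b hb] at sab
  simp only [bq]
  generalize C.q (C.κ a) = x at la sa ⊢
  generalize C.q (C.κ b) = y at lb sb ⊢
  generalize C.q (C.κ a ^^^ C.κ b) = w at lab sab ⊢
  rcases C.comm_or ha hb with h | h
  · refine iff_of_true h ?_
    rw [show a * b * (a * b) = (a * a) * (b * b) by rw [h.mul_mul_mul_comm], sa, sb] at sab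
    interval_cases x <;> interval_cases y <;> interval_cases w <;> simp_all [C.zz, C.z1, C.z1.symm]
  · refine iff_of_false (fun hc => C.z1 (mul_eq_right.mp (hc.eq ▸ h.symm : C.z * (b * a) = b * a))) ?_
    have e2 : a * b * (a * b) = C.z * ((a * a) * (b * b)) := by
      calc a * b * (a * b) = a * (b * a) * b := by group
        _ = a * (C.z * (a * b)) * b := by rw [h, ← mul_assoc C.z C.z, C.zz, one_mul]
        _ = a * C.z * a * (b * b) := by group
        _ = _ := by rw [(C.Jz a ha).eq]; group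
    rw [e2, sa, sb] at sab
    interval_cases x <;> interval_cases y <;> interval_cases w <;> simp_all [C.zz, C.z1, C.z1.symm]

theorem two_non {a b c : G} (ha : a ∈ C.J) (hb : b ∈ C.J) (hc : c ∈ C.J) (h1 : ¬ Commute a c) (h2 : ¬ Commute b c) :
    Commute (a * b) c := by
  show a * b * c = c * (a * b)
  rw [mul_assoc, (C.comm_or hb hc).resolve_left h2, ← mul_assoc, ← mul_assoc, (C.Jz a ha).eq, mul_assoc C.z,
    (C.comm_or ha hc).resolve_left h1, ← mul_assoc C.z C.z, C.zz, one_mul, mul_assoc]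

theorem q_add (u v w : ℕ) (hu : u < 256) (hv : v < 256) (hw : w < 256) :
    bq C.q (u ^^^ v) w = bq C.q u w ^^^ bq C.q v w := by
  obtain ⟨a, ha, rfl⟩ := C.κ_surj u hu
  obtain ⟨b, hb, rfl⟩ := C.κ_surj v hv
  obtain ⟨c, hc, rfl⟩ := C.κ_surj w hw
  have h1 := C.comm_iff ha hc
  have h2 := C.comm_iff hb hc
  have h3 := C.comm_iff (mul_mem ha hb) hc
  rw [C.κ_mul a ha b hb] at h3
  have l1 := C.bq_lt (C.κ a) (C.κ c)
  have l2 := C.bq_lt (C.κ b) (C.κ c)
  have l3 := C.bq_lt (C.κ a ^^^ C.κ b) (C.κ c)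
  by_cases ca : Commute a c <;> by_cases cb : Commute b c
  · rw [h1.mp ca, h2.mp cb, h3.mp (ca.mul_left cb)]; rfl
  · have e1 : bq C.q (C.κ b) (C.κ c) = 1 := by
      have : bq C.q (C.κ b) (C.κ c) ≠ 0 := fun e => cb (h2.mpr e)
      omega
    have e3 : bq C.q (C.κ a ^^^ C.κ b) (C.κ c) ≠ 0 := fun e => cb (by
      have := ca.inv_left.mul_left (h3.mpr e)
      rwa [inv_mul_cancel_left] at this)
    rw [h1.mp ca, e1, Nat.zero_xor]; omega
  · have e1 : bq C.q (C.κ a) (C.κ c) = 1 := by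
      have : bq C.q (C.κ a) (C.κ c) ≠ 0 := fun e => ca (h1.mpr e)
      omega
    have e3 : bq C.q (C.κ a ^^^ C.κ b) (C.κ c) ≠ 0 := fun e => ca (by
      have := (h3.mpr e).mul_left cb.inv_left
      rwa [mul_inv_cancel_right] at this)
    rw [e1, h2.mp cb, Nat.xor_zero]; omega
  · have e1 : bq C.q (C.κ a) (C.κ c) = 1 := by
      have : bq C.q (C.κ a) (C.κ c) ≠ 0 := fun e => ca (h1.mpr e)
      omega
    have e2 : bq C.q (C.κ b) (C.κ c) = 1 := by
      have : bq C.q (C.κ b) (C.κ c) ≠ 0 := fun e => cb (h2.mpr e)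
      omega
    rw [e1, e2, h3.mp (C.two_non ha hb hc ca cb)]; rfl

theorem q_nd (u : ℕ) (hu : u < 256) (h0 : u ≠ 0) : ∃ v < 256, bq C.q u v = 1 := by
  obtain ⟨a, ha, rfl⟩ := C.κ_surj u hu
  obtain ⟨c, hc, nc⟩ := C.nc a ha h0
  refine ⟨C.κ c, C.κ_lt c hc, ?_⟩
  have := C.bq_lt (C.κ a) (C.κ c)
  have : bq C.q (C.κ a) (C.κ c) ≠ 0 := fun e => nc ((C.comm_iff ha hc).mpr e).symm
  omega

/-- The action on coordinates. -/
noncomputable def act (h : G) (v : ℕ) : ℕ := C.κ (h * C.lift v * h⁻¹)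

theorem act_κ {h : G} (hh : Commute h C.z) {j : G} (hj : j ∈ C.J) : C.act h (C.κ j) = C.κ (h * j * h⁻¹) := by
  obtain ⟨hl, el⟩ := C.lift_spec (C.κ_lt j hj)
  rw [act]
  rcases C.κ_eq hl hj el with e | e <;> rw [e]
  rw [show h * (j * C.z) * h⁻¹ = (h * j * h⁻¹) * (h * C.z * h⁻¹) by group, hh.eq, mul_inv_cancel_right,
    C.κ_mul _ (C.conjJ h hh j hj) _ C.zJ, C.κ_z, Nat.xor_zero]

theorem act_lt {h : G} (hh : Commute h C.z) {v : ℕ} (hv : v < 256) : C.act h v < 256 :=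
  C.κ_lt _ (C.conjJ h hh _ (C.lift_spec hv).1)

theorem act_add {h : G} (hh : Commute h C.z) {u v : ℕ} (hu : u < 256) (hv : v < 256) :
    C.act h (u ^^^ v) = C.act h u ^^^ C.act h v := by
  obtain ⟨a, ha, rfl⟩ := C.κ_surj u hu
  obtain ⟨b, hb, rfl⟩ := C.κ_surj v hv
  rw [← C.κ_mul a ha b hb, C.act_κ hh (mul_mem ha hb), C.act_κ hh ha, C.act_κ hh hb,
    show h * (a * b) * h⁻¹ = (h * a * h⁻¹) * (h * b * h⁻¹) by group, C.κ_mul _ (C.conjJ h hh a ha) _ (C.conjJ h hh b hb)]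

theorem act_mul {g h : G} (hg : Commute g C.z) (hh : Commute h C.z) {v : ℕ} (hv : v < 256) :
    C.act (g * h) v = C.act g (C.act h v) := by
  obtain ⟨a, ha, rfl⟩ := C.κ_surj v hv
  rw [C.act_κ (hg.mul_left hh) ha, C.act_κ hh ha, C.act_κ hg (C.conjJ h hh a ha)]
  congr 1; group

theorem act_J {j : G} (hj : j ∈ C.J) {v : ℕ} (hv : v < 256) : C.act j v = v := by
  obtain ⟨a, ha, rfl⟩ := C.κ_surj v hv
  rw [C.act_κ (C.Jz j hj) ha, C.κ_conjJ hj ha]

theorem act_q {h : G} (hh : Commute h C.z) {v : ℕ} (hv : v < 256) : C.q (C.act h v) = C.q v := by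
  obtain ⟨a, ha, rfl⟩ := C.κ_surj v hv
  rw [C.act_κ hh ha]
  have e1 := C.sq (C.conjJ h hh a ha)
  rw [show h * a * h⁻¹ * (h * a * h⁻¹) = h * (a * a) * h⁻¹ by group, C.sq ha] at e1
  have l1 := C.q_lt (C.κ a)
  have l2 := C.q_lt (C.κ (h * a * h⁻¹))
  generalize C.q (C.κ a) = x at l1 e1 ⊢
  generalize C.q (C.κ (h * a * h⁻¹)) = y at l2 e1 ⊢
  interval_cases x <;> interval_cases y <;> simp_all [hh.eq, C.z1, C.z1.symm]

/-- The kernel of the action. -/
theorem act_ker [Finite G] {h : G} (hh : Commute h C.z) (he : ∀ v < 256, C.act h v = v) : h ∈ C.J := by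
  classical
  let bit : G → Fin 8 → Bool := fun k i => decide (Commute k (C.lift (1 <<< i.val)))
  have l8 : ∀ i : Fin 8, 1 <<< i.val < 256 := fun i => U6Rec.byte_one_lt i.val i.2
  let T : Fin 256 → Fin 8 → Bool := fun u i => bit (C.lift u.val) i
  have Tinj : Function.Injective T := by
    intro u v huv
    by_contra hne
    obtain ⟨hu, eu⟩ := C.lift_spec u.2
    obtain ⟨hv, ev⟩ := C.lift_spec v.2
    have hd : u.val ^^^ v.val ≠ 0 := fun h => hne (Fin.ext (U42Act.xzero h))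
    obtain ⟨w, hw, hB⟩ := C.q_nd _ (U42Act.xlt u.2 v.2) hd
    have hz : ∀ i < 8, bq C.q (u.val ^^^ v.val) (1 <<< i) = 0 := by
      intro i hi
      obtain ⟨hl, el⟩ := C.lift_spec (U6Rec.byte_one_lt i hi)
      have hi' := congrFun huv ⟨i, hi⟩
      simp only [T, bit, decide_eq_decide] at hi'
      rw [C.comm_iff hu hl, C.comm_iff hv hl, eu, ev, el] at hi'
      rw [C.q_add _ _ _ u.2 v.2 (U6Rec.byte_one_lt i hi)]
      have := C.bq_lt u.val (1 <<< i)
      have := C.bq_lt v.val (1 <<< i)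
      generalize bq C.q u.val (1 <<< i) = a at *
      generalize bq C.q v.val (1 <<< i) = b at *
      interval_cases a <;> interval_cases b <;> simp_all
    set d := u.val ^^^ v.val
    have hlin : ∀ a, a < 256 → ∀ b, b < 256 → bq C.q d (a ^^^ b) = bq C.q d a ^^^ bq C.q d b := by
      intro a ha b hb
      have sw : ∀ x y, bq C.q x y = bq C.q y x := fun x y => by simp only [bq, Nat.xor_comm x y]; ac_rfl
      rw [sw d, sw d a, sw d b, C.q_add a b d ha hb (U42Act.xlt u.2 v.2)]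
    have all := U6Rec.lin_ext (f := fun a => bq C.q d (a % 256)) (f' := fun _ => 0)
      (fun a b => by
        have ex : (a ^^^ b) % 256 = (a % 256) ^^^ (b % 256) := Nat.xor_mod_two_pow (n := 8)
        simp only [ex]; exact hlin _ (Nat.mod_lt _ (by norm_num)) _ (Nat.mod_lt _ (by norm_num)))
      (fun a b => rfl) (fun i hi => by
        simp only [Nat.mod_eq_of_lt (U6Rec.byte_one_lt i hi)]; exact hz i hi) w hw
    simp only [Nat.mod_eq_of_lt hw] at all
    omega
  have Tsurj : Function.Surjective T :=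
    ((Fintype.bijective_iff_injective_and_card T).mpr ⟨Tinj, by simp⟩).2
  obtain ⟨u, hu⟩ := Tsurj (bit h)
  obtain ⟨ha, -⟩ := C.lift_spec u.2
  set a := C.lift u.val with hadef
  have key : ∀ j ∈ C.J, h * j * h⁻¹ = j ∨ h * j * h⁻¹ = j * C.z := fun j hj =>
    C.κ_eq (C.conjJ h hh j hj) hj (by rw [← C.act_κ hh hj, he _ (C.κ_lt j hj)])
  have keya : ∀ j ∈ C.J, a * j * a⁻¹ = j ∨ a * j * a⁻¹ = j * C.z := fun j hj =>
    C.κ_eq (mul_mem (mul_mem ha hj) (inv_mem ha)) hj (C.κ_conjJ ha hj)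
  set k := a⁻¹ * h with hk
  have hkz : Commute k C.z := (C.Jz a ha).inv_left.mul_left hh
  have kstab : ∀ j ∈ C.J, k * j * k⁻¹ = j ∨ k * j * k⁻¹ = j * C.z := by
    intro j hj
    refine C.κ_eq (C.conjJ k hkz j hj) hj ?_
    rw [← C.act_κ hkz hj, hk, C.act_mul (C.Jz a ha).inv_left hh (C.κ_lt j hj), he _ (C.κ_lt j hj),
      C.act_J (inv_mem ha) (C.κ_lt j hj)]
  let S : Subgroup G :=
    { carrier := {j | j ∈ C.J ∧ Commute k j}
      one_mem' := ⟨one_mem _, Commute.one_right _⟩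
      mul_mem' := fun p q => ⟨mul_mem p.1 q.1, p.2.mul_right q.2⟩
      inv_mem' := fun p => ⟨inv_mem p.1, p.2.inv_right⟩ }
  have gen : ∀ i < 8, C.lift (1 <<< i) ∈ S := by
    intro i hi
    obtain ⟨hl, -⟩ := C.lift_spec (U6Rec.byte_one_lt i hi)
    refine ⟨hl, ?_⟩
    have hb := congrFun hu ⟨i, hi⟩
    simp only [T, bit, decide_eq_decide] at hb
    set l := C.lift (1 <<< i)
    refine mul_inv_eq_iff_eq_mul.mp ?_
    rw [hk, show a⁻¹ * h * l * (a⁻¹ * h)⁻¹ = a⁻¹ * (h * l * h⁻¹) * a by group]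
    have hal : h * l * h⁻¹ = a * l * a⁻¹ := by
      by_cases hc : Commute a l
      · rw [mul_inv_eq_iff_eq_mul.mpr (hb.mp hc).eq, mul_inv_eq_iff_eq_mul.mpr hc.eq]
      · rw [(key l hl).resolve_left fun e => hc (hb.mpr (mul_inv_eq_iff_eq_mul.mp e)),
          (keya l hl).resolve_left fun e => hc (mul_inv_eq_iff_eq_mul.mp e)]
    rw [hal]; group
  have zS : C.z ∈ S := ⟨C.zJ, hkz⟩
  have up : ∀ i ≤ 8, ∀ v < 2 ^ i, ∀ j ∈ C.J, C.κ j = v → j ∈ S := by
    intro i
    induction i with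
    | zero =>
      intro _ v hv j hj e
      have : C.κ j = 0 := by omega
      rcases (C.κ_ker j hj).mp this with rfl | rfl
      · exact one_mem _
      · exact zS
    | succ i ih =>
      intro hi v hv j hj e
      by_cases hlo : v < 2 ^ i
      · exact ih (by omega) v hlo j hj e
      · obtain ⟨hl, el⟩ := C.lift_spec (U6Rec.byte_one_lt i (by omega))
        have hm := mul_mem hj hl
        have e2 : C.κ (j * C.lift (1 <<< i)) < 2 ^ i := by
          rw [C.κ_mul j hj _ hl, e, el]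
          refine Nat.lt_pow_two_of_testBit _ fun t ht => ?_
          rw [Nat.testBit_xor, Nat.shiftLeft_eq, one_mul, Nat.testBit_two_pow]
          rcases Nat.lt_or_eq_of_le ht with h | h
          · rw [Nat.testBit_lt_two_pow (lt_of_lt_of_le hv (Nat.pow_le_pow_right (by norm_num) h))]
            simp [show i ≠ t by omega]
          · subst h
            have : v.testBit i = true := by
              rw [Nat.testBit_eq_decide_div_mod_eq]
              have h1 : v / 2 ^ i = 1 := Nat.div_eq_of_lt_le (by omega) (by rw [pow_succ] at hv; omega)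
              simp [h1]
            simp [this]
        have := mul_mem (ih (by omega) _ e2 _ hm rfl) (inv_mem (gen i (by omega)))
        rwa [mul_inv_cancel_right] at this
  have := C.cent k hkz fun j hj => (up 8 le_rfl _ (C.κ_lt j hj) j hj rfl).2
  rw [show h = a * k by rw [hk]; group]
  exact mul_mem ha this

end Chz

end CfsgLib.U6Chz
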