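/-
The data and the action from the statement's hypotheses; an isolated involution is central modulo the odd core.
-/
import Cfsg.Agent.Lib.U6Chz.Chz
import Cfsg.Agent.Lib.ExtraspecialTwo
import Cfsg.Agent.Lib.ZStar.Main
import Cfsg.Prelude.Def_CaseTheorems
import Cfsg.Prelude.Def_Transfer

set_option autoImplicit false
set_option linter.unusedVariables false

namespace CfsgLib.U6Chz

open CfsgLib.U42Act (Action)

/-- An isolated involution gives the factorisation. -/
theorem sup_core {G : Type*} [Group G] [Finite G] {t : G} (ht : orderOf t = 2) (hiso : Cfsg.IsIsolated t) :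
    Subgroup.centralizer ({t} : Set G) ⊔ Cfsg.oddCore G = ⊤ := by
  have hz := CfsgLib.ZStar.inZStar ht hiso
  refine eq_top_iff.mpr fun g _ => ?_
  have hd : g * t * g⁻¹ * t⁻¹ ∈ Cfsg.oddCore G := hz g
  set d := g * t * g⁻¹ * t⁻¹ with hddef
  have ht2 : t * t = 1 := by rw [← pow_two, ← ht]; exact pow_orderOf_eq_one t
  have hti : t⁻¹ = t := inv_eq_of_mul_eq_one_right ht2
  have hw2 : g * t * g⁻¹ * (g * t * g⁻¹) = 1 := by
    calc g * t * g⁻¹ * (g * t * g⁻¹) = g * (t * t) * g⁻¹ := by group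
      _ = 1 := by rw [ht2, mul_one, mul_inv_cancel]
  have hinv : t * d * t⁻¹ = d⁻¹ := by
    rw [hddef, mul_inv_rev, inv_inv, inv_eq_of_mul_eq_one_right hw2, hti]
    simp only [mul_assoc, ht2, mul_one]
  have hodd : Odd (orderOf d) := by
    have h2 : ¬ 2 ∣ Nat.card (Cfsg.oddCore G) := CfsgLib.not_dvd_card_pPrimeCore Nat.prime_two
    exact Nat.not_even_iff_odd.mp fun he => h2 (he.two_dvd.trans (Subgroup.orderOf_dvd_natCard _ hd))
  obtain ⟨m, hm⟩ := hodd
  set r := d ^ (m + 1) with hr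
  have htr : t * r⁻¹ = r * t := by
    have h : t * r * t⁻¹ = r⁻¹ := by rw [hr, ← conj_pow, hinv, inv_pow]
    rw [← h, ← mul_assoc, ← mul_assoc, ht2, one_mul, hti]
  have hr2 : r * r = d := by
    rw [hr, ← pow_add, show m + 1 + (m + 1) = orderOf d + 1 by omega, pow_succ, pow_orderOf_eq_one, one_mul]
  have hrt : r * t * r⁻¹ = g * t * g⁻¹ := by
    rw [mul_assoc, htr, ← mul_assoc, hr2, hddef, inv_mul_cancel_right]
  have hc : r⁻¹ * g ∈ Subgroup.centralizer ({t} : Set G) := by
    rw [Subgroup.mem_centralizer_singleton_iff]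
    calc r⁻¹ * g * t = r⁻¹ * (g * t * g⁻¹) * g := by group
      _ = t * (r⁻¹ * g) := by rw [← hrt]; group
  have hrm : r ∈ Subgroup.centralizer ({t} : Set G) ⊔ Cfsg.oddCore G :=
    Subgroup.mem_sup_right ((Cfsg.oddCore G).pow_mem hd _)
  simpa using Subgroup.mul_mem _ hrm (Subgroup.mem_sup_left hc)

/-- The data from the hypotheses. -/
theorem chz_of_hyp {G : Type*} [Group G] [Finite G] (z : G) (hz : orderOf z = 2)
    (hJ : Cfsg.IsExtraspecial 2 ↥(Cfsg.pCore 2 ↥(Subgroup.centralizer ({z} : Set G))))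
    (hJc : Nat.card ↥(Cfsg.pCore 2 ↥(Subgroup.centralizer ({z} : Set G))) = 2 ^ 9)
    (hCJ : Subgroup.centralizer ((Cfsg.pCore 2 ↥(Subgroup.centralizer ({z} : Set G))) : Set ↥(Subgroup.centralizer ({z} : Set G))) ≤ Cfsg.pCore 2 ↥(Subgroup.centralizer ({z} : Set G)))
    [hJn : (Cfsg.pCore 2 ↥(Subgroup.centralizer ({z} : Set G))).Normal] :
    ∃ D : Chz G, D.z = z ∧ ∀ h : ↥(Subgroup.centralizer ({z} : Set G)),
      (h : G) ∈ D.J ↔ h ∈ Cfsg.pCore 2 ↥(Subgroup.centralizer ({z} : Set G)) := by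
  classical
  set H := Subgroup.centralizer ({z} : Set G) with hH
  set P := Cfsg.pCore 2 ↥H with hP
  have zH : z ∈ H := Subgroup.mem_centralizer_singleton_iff.mpr rfl
  have cz : ∀ h : H, Commute (h : G) z := fun h => Subgroup.mem_centralizer_singleton_iff.mp h.2
  have zc : (⟨z, zH⟩ : H) ∈ Subgroup.centralizer (P : Set H) :=
    Subgroup.mem_centralizer_iff.mpr fun h _ => Subtype.ext (cz h).eq
  have zP : (⟨z, zH⟩ : H) ∈ P := hCJ zc
  obtain ⟨w, hw⟩ := CfsgLib.ExtraTwo.ofExtraspecial hJ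
  have z1 : z ≠ 1 := fun h => by rw [h, orderOf_one] at hz; exact absurd hz (by norm_num)
  have wz : w = ⟨⟨z, zH⟩, zP⟩ := by
    have hc : (⟨⟨z, zH⟩, zP⟩ : P) ∈ Subgroup.center P :=
      Subgroup.mem_center_iff.mpr fun h => Subtype.ext (Subtype.ext (cz h.1).eq)
    rcases (hw.center_iff _).mp hc with h | h
    · exact absurd (congrArg (fun a : P => (a.1 : G)) h) z1
    · exact h.symm
  subst wz
  obtain ⟨D, hD1, hD2⟩ := exists_chz z hz (P.map H.subtype)
    (fun j hj => by obtain ⟨a, -, rfl⟩ := hj; exact cz a)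
    (fun h hh j hj => by
      obtain ⟨a, ha, rfl⟩ := hj
      exact ⟨⟨h, Subgroup.mem_centralizer_singleton_iff.mpr hh⟩ * a * ⟨h, Subgroup.mem_centralizer_singleton_iff.mpr hh⟩⁻¹,
        hJn.conj_mem a ha _, rfl⟩)
    (by
      rw [← Nat.card_congr (Subgroup.equivMapOfInjective P H.subtype H.subtype_injective).toEquiv, hJc]
      norm_num)
    (fun j hj => by
      obtain ⟨a, ha, rfl⟩ := hj
      exact (hw.sq ⟨a, ha⟩).imp (fun h => congrArg (fun b : P => (b.1 : G)) h) fun h =>
        congrArg (fun b : P => (b.1 : G)) h)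
    ⟨⟨z, zH⟩, zP, rfl⟩
    (fun j hj hk => by
      obtain ⟨a, ha, rfl⟩ := hj
      have hc : (⟨a, ha⟩ : P) ∈ Subgroup.center P := Subgroup.mem_center_iff.mpr fun b =>
        Subtype.ext (Subtype.ext (hk _ ⟨b.1, b.2, rfl⟩).eq)
      exact ((hw.center_iff _).mp hc).imp (fun h => congrArg (fun b : P => (b.1 : G)) h) fun h =>
        congrArg (fun b : P => (b.1 : G)) h)
    (fun h hh hc => by
      refine ⟨⟨h, Subgroup.mem_centralizer_singleton_iff.mpr hh⟩, hCJ ?_, rfl⟩
      exact Subgroup.mem_centralizer_iff.mpr fun b hb => Subtype.ext (hc _ ⟨b, hb, rfl⟩).eq.symm)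
  refine ⟨D, hD1, fun h => ?_⟩
  rw [hD2]
  exact Subgroup.mem_map_iff_mem H.subtype_injective

variable {G : Type*} [Group G] [Finite G] (C : Chz G) {X : Type*} [Group X]

/-- The action of a quotient of the centraliser. -/
noncomputable def action (π : ↥(Subgroup.centralizer ({C.z} : Set G)) →* X) (hπ : Function.Surjective π)
    (hk : ∀ h : ↥(Subgroup.centralizer ({C.z} : Set G)), π h = 1 ↔ (h : G) ∈ C.J) : Action X where
  act x v := C.act (Function.surjInv hπ x).1 v
  q := C.q
  lt x v hv := C.act_lt (Subgroup.mem_centralizer_singleton_iff.mp (Function.surjInv hπ x).2) hv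
  add x u v hu hv := C.act_add (Subgroup.mem_centralizer_singleton_iff.mp (Function.surjInv hπ x).2) hu hv
  mul x y v hv := by
    set a := Function.surjInv hπ x with ha
    set b := Function.surjInv hπ y with hb
    set c := Function.surjInv hπ (x * y) with hc
    have az := Subgroup.mem_centralizer_singleton_iff.mp a.2
    have bz := Subgroup.mem_centralizer_singleton_iff.mp b.2
    have abz := Subgroup.mem_centralizer_singleton_iff.mp (a * b).2
    have hm : (((a * b)⁻¹ * c : ↥(Subgroup.centralizer ({C.z} : Set G))) : G) ∈ C.J := (hk _).mp (by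
      rw [map_mul, map_inv, map_mul, ha, hb, hc, Function.surjInv_eq hπ, Function.surjInv_eq hπ,
        Function.surjInv_eq hπ, inv_mul_cancel])
    rw [← C.act_mul az bz hv, show (c : G) = ((a * b : ↥(Subgroup.centralizer ({C.z} : Set G))) : G) *
      (((a * b)⁻¹ * c : ↥(Subgroup.centralizer ({C.z} : Set G))) : G) by rw [← Subgroup.coe_mul, mul_inv_cancel_left],
      C.act_mul abz (Subgroup.mem_centralizer_singleton_iff.mp ((a * b)⁻¹ * c).2) hv, C.act_J hm hv]
    rfl
  one v hv := C.act_J ((hk _).mp (Function.surjInv_eq hπ 1)) hv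
  faithful x hx := by
    have := C.act_ker (Subgroup.mem_centralizer_singleton_iff.mp (Function.surjInv hπ x).2) hx
    rw [← Function.surjInv_eq hπ x]
    exact (hk _).mpr this
  q_lt v _ := C.q_lt v
  q_zero := C.q_zero
  q_inv x v hv := C.act_q (Subgroup.mem_centralizer_singleton_iff.mp (Function.surjInv hπ x).2) hv
  q_add u v w hu hv hw := C.q_add u v w hu hv hw
  q_nd := C.q_nd

theorem action_act (π : ↥(Subgroup.centralizer ({C.z} : Set G)) →* X) (hπ : Function.Surjective π)
    (hk : ∀ h : ↥(Subgroup.centralizer ({C.z} : Set G)), π h = 1 ↔ (h : G) ∈ C.J)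
    (h : ↥(Subgroup.centralizer ({C.z} : Set G))) {v : ℕ} (hv : v < 256) :
    (action C π hπ hk).act (π h) v = C.act h v := by
  set c := Function.surjInv hπ (π h) with hc
  show C.act c v = _
  have hm : ((c⁻¹ * h : ↥(Subgroup.centralizer ({C.z} : Set G))) : G) ∈ C.J := (hk _).mp (by
    rw [map_mul, map_inv, hc, Function.surjInv_eq hπ, inv_mul_cancel])
  conv_rhs => rw [show (h : G) = (c : G) * ((c⁻¹ * h : ↥(Subgroup.centralizer ({C.z} : Set G))) : G) by
    rw [← Subgroup.coe_mul, mul_inv_cancel_left]]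
  rw [C.act_mul (Subgroup.mem_centralizer_singleton_iff.mp c.2)
    (Subgroup.mem_centralizer_singleton_iff.mp (c⁻¹ * h).2) hv, C.act_J hm hv]

end CfsgLib.U6Chz
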