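/-
Six plus two coordinates give an isolated involution.
-/
import Cfsg.Agent.Lib.U6Chz.Chz
import Cfsg.Agent.Lib.SixTwoType.Isolated
import Cfsg.Agent.Lib.SixTwoType.Isom

set_option autoImplicit false
set_option maxRecDepth 100000
set_option linter.unusedVariables false

namespace CfsgLib.U6Chz

open CfsgLib.U42Act (bq qW Chart)
open CfsgLib.SixTwoType (XG X0 pw)

attribute [local irreducible] U6Rec.comp U6Rec.app SixTwoType.psi

/-- The inverse of a change of coordinates. -/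
noncomputable def inverse (ψ : ℕ → ℕ) (w : ℕ) : ℕ :=
  haveI := Classical.propDecidable
  if h : ∃ v < 256, ψ v = w then h.choose else 0

theorem inverse_spec {ψ : ℕ → ℕ} (hψ : Chart ψ) {w : ℕ} (hw : w < 256) :
    inverse ψ w < 256 ∧ ψ (inverse ψ w) = w := by
  classical
  have h := hψ.surj w hw
  rw [inverse, dif_pos h]
  exact h.choose_spec

theorem inverse_apply {ψ : ℕ → ℕ} (hψ : Chart ψ) {v : ℕ} (hv : v < 256) : inverse ψ (ψ v) = v :=
  hψ.inj _ _ (inverse_spec hψ (hψ.lt v hv)).1 hv (inverse_spec hψ (hψ.lt v hv)).2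

theorem inverse_add {ψ : ℕ → ℕ} (hψ : Chart ψ) {a b : ℕ} (ha : a < 256) (hb : b < 256) :
    inverse ψ (a ^^^ b) = inverse ψ a ^^^ inverse ψ b := by
  obtain ⟨la, ea⟩ := inverse_spec hψ ha
  obtain ⟨lb, eb⟩ := inverse_spec hψ hb
  have h := inverse_apply hψ (U42Act.xlt la lb)
  rwa [hψ.add _ _ la lb, ea, eb] at h

theorem chart_zero {ψ : ℕ → ℕ} (hψ : Chart ψ) : ψ 0 = 0 := by
  have := hψ.add 0 0 (by norm_num) (by norm_num)
  simpa using this

theorem inverse_zero {ψ : ℕ → ℕ} (hψ : Chart ψ) {w : ℕ} (hw : w < 256) : inverse ψ w = 0 ↔ w = 0 := by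
  obtain ⟨l, e⟩ := inverse_spec hψ hw
  refine ⟨fun h => by rw [← e, h, chart_zero hψ], fun h => ?_⟩
  subst h
  have := inverse_apply hψ (show 0 < 256 by norm_num)
  rwa [chart_zero hψ] at this

/-- The six plus two configuration isolates the involution. -/
theorem six_isolated {G : Type*} [Group G] [Finite G] (C : Chz G) {ψ : ℕ → ℕ} {e : ℕ} (he : e < 2) (hψ : Chart ψ)
    (hqW : ∀ v < 256, C.q (ψ v) = qW e v)
    (hW : ∀ h, Commute h C.z → ∀ v < 64, ∃ w < 64, C.act h (ψ v) = ψ w)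
    (hU : ∀ h, Commute h C.z → ∀ v < 256, v &&& 63 = 0 → ∃ w < 256, w &&& 63 = 0 ∧ C.act h (ψ v) = ψ w)
    (hsurj : ∀ g ∈ X0, ∃ h, Commute h C.z ∧ (∀ v < 64, C.act h (ψ v) = ψ (pw g v)) ∧
      ∀ v < 256, v &&& 63 = 0 → C.act h (ψ v) = ψ v)
    (hker : ∀ h, Commute h C.z → (∀ v < 64, C.act h (ψ v) = ψ v) → h ∈ C.J)
    (f : G) (hf : Commute (f * C.z * f⁻¹) C.z) : f * C.z * f⁻¹ = C.z := by
  classical
  have l2 : ∀ {v}, v < 64 → v < 256 := fun h => by omega
  have hz : ∀ v < 256, qW e v = qW e v := fun _ _ => rfl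
  have isom : ∀ h, Commute h C.z → ∃ g : XG, ∀ v < 64, C.act h (ψ v) = ψ (pw g v) := by
    intro h hh
    choose w hw ew using hW h hh
    let g : ℕ → ℕ := fun v => if hv : v < 64 then w v hv else 0
    have ge : ∀ v (hv : v < 64), g v = w v hv := fun v hv => dif_pos hv
    obtain ⟨x, hx⟩ := SixTwoType.isom_psi g (fun v hv => by rw [ge v hv]; exact hw v hv)
      (fun u hu v hv => by
        have hl := Nat.xor_lt_two_pow (n := 6) hu hv
        rw [ge _ hl, ge u hu, ge v hv]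
        refine hψ.inj _ _ (l2 (hw _ hl)) (U42Act.xlt (l2 (hw _ hu)) (l2 (hw _ hv))) ?_
        rw [hψ.add _ _ (l2 (hw _ hu)) (l2 (hw _ hv)), ← ew, ← ew, ← ew, hψ.add u v (l2 hu) (l2 hv),
          C.act_add hh (hψ.lt u (l2 hu)) (hψ.lt v (l2 hv))])
      (fun v hv => by
        rw [ge v hv, ← (SixTwoType.qW_split e he _ (l2 (hw v hv))).2.2.2.1 (hw v hv),
          ← (SixTwoType.qW_split e he v (l2 hv)).2.2.2.1 hv, ← hqW _ (l2 (hw v hv)), ← ew, C.act_q hh (hψ.lt v (l2 hv)),
          hqW v (l2 hv)])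
    exact ⟨x, fun v hv => by rw [ew v hv, hx v hv, ge v hv]⟩
  choose σf hσf using isom
  let σ : G → XG := fun h => if hh : Commute h C.z then σf h hh else 1
  have hσ : ∀ h, Commute h C.z → ∀ v < 64, C.act h (ψ v) = ψ (pw (σ h) v) := fun h hh v hv => by
    simp only [σ, dif_pos hh]; exact hσf h hh v hv
  have uniq : ∀ {h g}, Commute h C.z → (∀ v < 64, C.act h (ψ v) = ψ (pw g v)) → σ h = g := by
    intro h g hh hg
    rw [← inv_mul_eq_one]
    refine SixTwoType.pw_inj fun v hv => ?_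
    have : pw (σ h) v = pw g v :=
      hψ.inj _ _ (SixTwoType.pw_lt _ _) (SixTwoType.pw_lt _ _) ((hσ h hh v hv).symm.trans (hg v hv))
    rw [SixTwoType.pw_mul, ← this, SixTwoType.pw_inv_self _ (l2 hv)]
  have κeq : ∀ h, Commute h C.z → ∀ j ∈ C.J,
      C.κ (h * j * h⁻¹) = C.act h (ψ (inverse ψ (C.κ j))) := fun h hh j hj => by
    rw [(inverse_spec hψ (C.κ_lt j hj)).2, C.act_κ hh hj]
  have split : ∀ h, Commute h C.z → ∀ v < 256, ∃ a b, a < 64 ∧ b < 256 ∧ b &&& 63 = 0 ∧ a = pw (σ h) (v &&& 63) ∧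
      C.act h (ψ v) = ψ (a ^^^ b) ∧ (v < 64 → b = 0) := by
    intro h hh v hv
    obtain ⟨e1, l, lu, hu, hlow, -⟩ := SixTwoType.parts v hv
    obtain ⟨b, hb, hb0, eb⟩ := hU h hh _ lu hu
    refine ⟨_, b, SixTwoType.pw_six _ l, hb, hb0, rfl, ?_, fun h64 => ?_⟩
    · conv_lhs => rw [e1]
      rw [hψ.add _ _ (l2 l) lu, C.act_add hh (hψ.lt _ (l2 l)) (hψ.lt _ lu), hσ h hh _ l, eb,
        hψ.add _ _ (SixTwoType.pw_lt _ _) hb]
    · have hv0 : v &&& 192 = 0 := by
        have := hlow h64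
        rw [this] at e1
        exact (U42Act.xcancel v (v &&& 192)).symm.trans (by rw [← e1, Nat.xor_self])
      rw [hv0, chart_zero hψ] at eb
      have h0 : C.act h 0 = 0 := by
        have := C.act_add hh (show 0 < 256 by norm_num) (show 0 < 256 by norm_num)
        simpa using this
      rw [h0] at eb
      exact hψ.inj _ _ hb (by norm_num) (eb.symm.trans (chart_zero hψ).symm)
  let S : SixTwoType.Setting G :=
    { z := C.z
      zz := C.zz
      z1 := C.z1
      J := C.J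
      zJ := C.zJ
      Jz := C.Jz
      conjJ := C.conjJ
      κ := fun g => inverse ψ (C.κ g)
      κ_lt := fun j hj => (inverse_spec hψ (C.κ_lt j hj)).1
      κ_mul := fun a ha b hb => by
        rw [C.κ_mul a ha b hb, inverse_add hψ (C.κ_lt a ha) (C.κ_lt b hb)]
      κ_ker := fun j hj => by rw [inverse_zero hψ (C.κ_lt j hj), C.κ_ker j hj]
      κ_surj := fun v hv => by
        obtain ⟨j, hj, ej⟩ := C.κ_surj _ (hψ.lt v hv)
        exact ⟨j, hj, by rw [ej, inverse_apply hψ hv]⟩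
      e := e
      he := he
      sq := fun j hj => by
        obtain ⟨l, el⟩ := inverse_spec hψ (C.κ_lt j hj)
        rw [← hqW _ l, el]; exact C.sq hj
      σ := σ
      σ_mul := fun a b ha hb => uniq (ha.mul_left hb) fun v hv => by
        rw [C.act_mul ha hb (hψ.lt v (l2 hv)), hσ b hb v hv, hσ a ha _ (SixTwoType.pw_six _ hv), SixTwoType.pw_mul]
      σ_ker := fun h hh => by
        refine ⟨fun h1 => hker h hh fun v hv => by rw [hσ h hh v hv, h1, SixTwoType.pw_one (l2 hv)], fun hJ => ?_⟩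
        exact uniq hh fun v hv => by rw [C.act_J hJ (hψ.lt v (l2 hv)), SixTwoType.pw_one (l2 hv)]
      σ_surj := fun g hg => by
        obtain ⟨h, hh, h1, -⟩ := hsurj g hg
        exact ⟨h, hh, uniq hh h1⟩
      κ_W := fun h hh j hj => by
        obtain ⟨l, -⟩ := inverse_spec hψ (C.κ_lt j hj)
        obtain ⟨a, b, la, lb, b0, ea, eab, -⟩ := split h hh _ l
        rw [κeq h hh j hj, eab, inverse_apply hψ (U42Act.xlt (l2 la) lb), Nat.and_xor_distrib_right, b0, Nat.xor_zero,
          (SixTwoType.parts a (l2 la)).2.2.2.2.1 la, ea]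
      κ_low := fun h hh j hj hlow => by
        obtain ⟨l, -⟩ := inverse_spec hψ (C.κ_lt j hj)
        obtain ⟨a, b, la, lb, b0, ea, eab, hb⟩ := split h hh _ l
        rw [κeq h hh j hj, eab, inverse_apply hψ (U42Act.xlt (l2 la) lb), hb hlow, Nat.xor_zero]
        exact la
      κ_inner := fun h hh hin j hj => by
        obtain ⟨l, -⟩ := inverse_spec hψ (C.κ_lt j hj)
        obtain ⟨h0, hh0, h1, h2⟩ := hsurj (σ h) hin
        have hm : h0⁻¹ * h ∈ C.J := by
          refine hker _ (hh0.inv_left.mul_left hh) fun v hv => ?_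
          rw [C.act_mul hh0.inv_left hh (hψ.lt v (l2 hv)), hσ h hh v hv, ← h1 v hv,
            ← C.act_mul hh0.inv_left hh0 (hψ.lt v (l2 hv)), inv_mul_cancel, C.act_J (one_mem _) (hψ.lt v (l2 hv))]
        have same : ∀ v < 256, C.act h v = C.act h0 v := fun v hv => by
          conv_lhs => rw [show h = h0 * (h0⁻¹ * h) by group, C.act_mul hh0 (hh0.inv_left.mul_left hh) hv, C.act_J hm hv]
        obtain ⟨e1, la, lu, hu, -, -⟩ := SixTwoType.parts _ l
        rw [κeq h hh j hj, same _ (hψ.lt _ l)]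
        conv_lhs => rw [e1]
        rw [hψ.add _ _ (l2 la) lu, C.act_add hh0 (hψ.lt _ (l2 la)) (hψ.lt _ lu), h1 _ la, h2 _ lu hu,
          ← hψ.add _ _ (SixTwoType.pw_lt _ _) lu, inverse_apply hψ (U42Act.xlt (SixTwoType.pw_lt _ _) lu),
          SixTwoType.Setting.pw_parts _ l] }
  exact S.isolated f hf

theorem X0_index : X0.index = 2 := by
  have hs : (⟨Fi22Cent.sigC, SixTwoType.inX_gen.1⟩ : XG) ∉ X0 := SixTwoType.sigC_not
  refine Subgroup.index_eq_two_iff.mpr ⟨⟨Fi22Cent.sigC, SixTwoType.inX_gen.1⟩, fun b => ?_⟩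
  by_cases hb : b ∈ X0
  · exact Or.inr ⟨hb, fun h => hs (by simpa using X0.mul_mem (X0.inv_mem hb) h)⟩
  · exact Or.inl ⟨SixTwoType.X0_two hb hs, hb⟩

/-- A simple group of the same order maps onto the inner part. -/
theorem range_X0 {X : Type*} [Group X] [Finite X] [IsSimpleGroup X] (hc : Nat.card X = 25920) (S : X →* XG)
    (hS : Function.Injective S) : S.range = X0 := by
  haveI : X0.Normal := ⟨fun q hq p => SixTwoType.X0_conj_mem p hq⟩
  have h0 := Subgroup.card_mul_index X0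
  rw [X0_index, SixTwoType.card_XG] at h0
  have hle : S.range ≤ X0 := by
    rcases Subgroup.Normal.eq_bot_or_eq_top (inferInstance : (X0.comap S).Normal) with h | h
    · exfalso
      have e := Subgroup.index_comap X0 S
      rw [h, Subgroup.index_bot, hc] at e
      have := Nat.le_of_dvd (by rw [X0_index]; norm_num) (Subgroup.relIndex_dvd_index_of_normal X0 S.range)
      rw [X0_index] at this
      omega
    · rintro _ ⟨x, rfl⟩
      exact Subgroup.mem_comap.mp (h ▸ Subgroup.mem_top x)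
  refine Subgroup.eq_of_le_of_card_ge hle ?_
  rw [← Nat.card_congr (MonoidHom.ofInjective hS).toEquiv, hc]
  omega

end CfsgLib.U6Chz
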